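import Cfsg.Agent.Sing.Def

/-!
# The panel lemma and the alternation lemma over `𝔽_q` (port of the end of `Proj/CKBase`)
-/

set_option autoImplicit false
set_option linter.unusedSectionVars false
set_option linter.style.haveILetI false

namespace Cfsg.Agent.Sing

open MulAction Pointwise Cfsg.Agent.Proj.CK

variable {F G V : Type*} [Field F] [Group G] [AddCommGroup V] [Module F V] [DistribMulAction G V]
  [SMulCommClass G F V] [Finite F] [Finite V] [Finite G]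

theorem arith {a b A B k : ℕ} (ha : a ≤ A) (hb : b ≤ B) (hA : 0 < A) (hB : 0 < B) (hk : 0 < k)
    (h : A * B * k = a * b) : k = 1 ∧ a = A ∧ b = B := by
  have h1 : a * b ≤ A * B := Nat.mul_le_mul ha hb
  have h2 : 0 < A * B := Nat.mul_pos hA hB
  obtain rfl : k = 1 := by nlinarith
  exact ⟨rfl, by nlinarith, by nlinarith⟩

/-- `Ω = orb P E` has `m ≤ q + 1` elements (`ncard_orb_mul`, `Bo ≤ P ⊓ stab E`).  Let
`E' = π • E ≠ E`, `B2 = P ⊓ stab E'` (transitive on `U \ E'`, contains `π Bo π⁻¹`),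
`D = B2 ⊓ stab E`, `w = |E| = q w₀` (`card_inf_of_index`).  For `z ∈ E \ E'`, `orb_dc B2 z E`
(plain vector stabiliser): `(q-1) w k = j |orb D z|` with `k = |orb (B2 ⊓ stab z) E| ≥ 1`,
`j = |orb B2 E| ≤ m - 1 ≤ q`, `|orb D z| ≤ |E \ E'| = (q-1) w₀`.  So equality everywhere: `k = 1`,
`j = q`, `m = q + 1` (hence `Bo = P ⊓ stab E ≥ D`), `orb B2 E = Ω \ {E'}`, `D` transitive on
`E \ E'`.  For `E'' = b • E ∈ Ω \ {E, E'}` (`b ∈ B2`) and `z ∈ E \ E'`: if `z ∈ E''` then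
`b⁻¹ z ∈ E \ E'`, `d z = b⁻¹ z`, `b d ∈ B2 ⊓ stab z`, `(b d) E = E''`, so `E'' = E` as `k = 1`.
Hence `E ⊓ E'' ≤ E ⊓ E'`, equal by cardinality; so `E2 = E ⊓ E'` lies in all members of `Ω`
and is `P`-invariant (end as in `CK.panel`). -/
theorem panel {Bo P : Subgroup G} (hle : Bo ≤ P)
    (h3 : Nat.card P = (Nat.card F + 1) * Nat.card Bo)
    {U E : Submodule F V} (hEU : E ≤ U) (hc : Nat.card U = Nat.card F * Nat.card E)
    (hU : Inv P (U : Set V)) (hE : Inv Bo (E : Set V)) (ht : Tr Bo ((U : Set V) \ E))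
    (hn : ¬ Inv P (E : Set V)) :
    ∃ E2 : Submodule F V, E2 ≤ E ∧ Nat.card E = Nat.card F * Nat.card E2 ∧ Inv P (E2 : Set V) ∧
      Tr Bo ((E : Set V) \ E2) := by
  have hB1 : Bo ≤ P ⊓ stabilizer G E := le_inf hle (inv_iff_le_stab.1 hE)
  have h1 := ncard_orb_mul P E
  obtain ⟨j, hj⟩ := Subgroup.card_dvd_of_le hB1
  have hp : 0 < Nat.card Bo := Nat.card_pos
  have hq := two_le_q (F := F)
  have h2 : (orb P E).ncard * j = Nat.card F + 1 := by
    apply Nat.eq_of_mul_eq_mul_right hp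
    rw [← h3, ← h1, hj]; ring
  have hm := Nat.le_of_dvd (by omega) (Dvd.intro _ h2)
  obtain ⟨π, hπ, hπE⟩ : ∃ π ∈ P, π • E ≠ E := by
    by_contra! hc
    exact hn (inv_iff_le_stab.2 hc)
  have hmem : ∀ E' ∈ orb P E, E' ≤ U ∧ Nat.card U = Nat.card F * Nat.card E' := by
    rintro _ ⟨g, hg, rfl⟩
    refine ⟨fun v hv => ?_, by rw [card_smul]; exact hc⟩
    simpa using hU g hg _ (hEU (mem_smul_iff.1 hv))
  set E' := π • E with hE'
  have hE'm : E' ∈ orb P E := ⟨π, hπ, rfl⟩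
  have hi := card_inf_of_index hEU (hmem E' hE'm).1 hc (hmem E' hE'm).2 hπE.symm
  set B2 := P ⊓ stabilizer G E' with hB2
  have ht2 : Tr B2 ((U : Set V) \ E') := by
    intro z hz w hw
    have hz' : π⁻¹ • z ∈ (U : Set V) \ E :=
      ⟨hU _ (P.inv_mem hπ) _ hz.1, fun h => hz.2 (mem_smul_iff.2 h)⟩
    have hw' : π⁻¹ • w ∈ (U : Set V) \ E :=
      ⟨hU _ (P.inv_mem hπ) _ hw.1, fun h => hw.2 (mem_smul_iff.2 h)⟩
    obtain ⟨g, hg, e⟩ := ht _ hz' _ hw'
    refine ⟨π * g * π⁻¹, ⟨P.mul_mem (P.mul_mem hπ (hle hg)) (P.inv_mem hπ), ?_⟩, ?_⟩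
    · show (π * g * π⁻¹) • π • E = π • E
      rw [mul_smul, inv_smul_smul, mul_smul, mem_stabilizer_iff.1 (hB1 hg).2]
    · rw [mul_smul, mul_smul, e, smul_inv_smul]
  have hi2 : Inv B2 ((U : Set V) \ E') :=
    (hU.mono inf_le_left).diff (inv_iff_le_stab.2 inf_le_right)
  set D := B2 ⊓ stabilizer G E with hD
  have hiD : Inv D ((E : Set V) \ E') :=
    (inv_iff_le_stab.2 inf_le_right).diff (inv_iff_le_stab.2 (inf_le_left.trans inf_le_right))
  have hcd := ncard_diff' E E'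
  have hw0 : 0 < Nat.card ↥(E ⊓ E') := Nat.card_pos
  obtain ⟨r, hr⟩ : ∃ r, Nat.card F = r + 1 := ⟨Nat.card F - 1, by omega⟩
  have hcd' : ((E : Set V) \ E').ncard = r * Nat.card ↥(E ⊓ E') := by
    rw [hi, hr, add_mul, one_mul] at hcd; omega
  have hsub : orb B2 E ⊆ orb P E \ {E'} := by
    rintro _ ⟨g, hg, rfl⟩
    refine ⟨⟨g, hg.1, rfl⟩, fun h => hπE ?_⟩
    have h' : g • E = g • E' := by rw [mem_stabilizer_iff.1 hg.2]; exact h
    exact (smul_left_cancel g h').symm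
  have a2 := Set.ncard_le_ncard hsub ((orb_finite P E).sdiff)
  have a2' := Set.ncard_sdiff_singleton_of_mem hE'm
  have main : ∀ z ∈ (E : Set V) \ E', (orb (B2 ⊓ stabilizer G z) E).ncard = 1 ∧
      (orb B2 E).ncard = Nat.card F ∧ (orb D z).ncard = ((E : Set V) \ E').ncard := fun z hz => by
    have d := orb_dc B2 z E
    have hz' : z ∈ (U : Set V) \ E' := ⟨hEU hz.1, hz.2⟩
    rw [ht2.orb_eq hi2 hz', ncard_diff (hmem E' hE'm).1] at d
    refine arith (by omega) (Set.ncard_le_ncard (hiD.orb_subset hz)) (by omega)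
      (by rw [hcd']; exact Nat.mul_pos (by omega) hw0) (ncard_orb_pos _ _) ?_
    rw [← d, hcd', hc, show Nat.card E' = Nat.card E from card_smul _ _, hi, hr]
    congr 1
    exact (Nat.sub_eq_of_eq_add (by ring)).symm
  have htD : Tr D ((E : Set V) \ E') :=
    Tr.of_ncard_le (Set.toFinite _) hiD fun z hz => (main z hz).2.2.ge
  obtain ⟨z, hz⟩ : ((E : Set V) \ E').Nonempty := by
    rw [← Set.ncard_pos, hcd']; exact Nat.mul_pos (by omega) hw0
  have hj2 := (main z hz).2.1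
  have hΩ : (orb P E).ncard = Nat.card F + 1 := by omega
  have hj1 : j = 1 := by
    rw [hΩ] at h2; exact Nat.eq_of_mul_eq_mul_left (by omega) (h2.trans (mul_one _).symm)
  have hBeq : Bo = P ⊓ stabilizer G E :=
    Subgroup.eq_of_le_of_card_ge hB1 (by rw [hj, hj1]; omega)
  have hDB : D ≤ Bo := by rw [hBeq]; exact inf_le_inf_right _ inf_le_left
  have hO := Set.eq_of_subset_of_ncard_le hsub (by omega) ((orb_finite P E).sdiff)
  have key : ∀ E'' ∈ orb P E, E ⊓ E' ≤ E'' := by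
    intro E'' hE''
    by_cases e1 : E'' = E
    · rw [e1]; exact inf_le_left
    by_cases e2 : E'' = E'
    · rw [e2]; exact inf_le_right
    obtain ⟨b, hb, e⟩ : E'' ∈ orb B2 E := hO ▸ ⟨hE'', e2⟩
    have hz'' : ∀ w ∈ (E : Set V) \ E', w ∉ E'' := by
      intro w hw hw''
      obtain ⟨d, hd, e'⟩ := htD w hw (b⁻¹ • w) ⟨mem_smul_iff.1 (e ▸ hw''), fun h => hw.2 (by
        simpa using stab_mem hb.2 h)⟩
      obtain ⟨a, ha⟩ := Set.ncard_eq_one.1 (main w hw).1
      have x1 : E ∈ orb (B2 ⊓ stabilizer G w) E := mem_orb_self _ _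
      have x2 : E'' ∈ orb (B2 ⊓ stabilizer G w) E :=
        ⟨b * d, ⟨B2.mul_mem hb hd.1, mem_stabilizer_iff.2 (by rw [mul_smul, e', smul_inv_smul])⟩, by
          rw [mul_smul, mem_stabilizer_iff.1 hd.2, e]⟩
      rw [ha] at x1 x2
      exact e1 (x2.trans x1.symm)
    have hi' := card_inf_of_index hEU (hmem E'' hE'').1 hc (hmem E'' hE'').2 (Ne.symm e1)
    have : E ⊓ E'' ≤ E ⊓ E' := by
      intro w hw
      refine ⟨hw.1, ?_⟩
      by_contra hc
      exact hz'' w ⟨hw.1, hc⟩ hw.2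
    rw [← eq_of_le_of_card_ge this (Nat.eq_of_mul_eq_mul_left (by omega) (hi.symm.trans hi')).le]
    exact inf_le_right
  refine ⟨E ⊓ E', inf_le_left, hi, fun g hg v hv => ⟨?_, ?_⟩, ?_⟩
  · have := key (g⁻¹ • E) ⟨g⁻¹, P.inv_mem hg, rfl⟩ hv
    simpa [mem_smul_iff] using this
  · have := key (g⁻¹ • E') (inv_orb P E _ (P.inv_mem hg) _ hE'm) hv
    simpa [mem_smul_iff] using this
  · have : (E : Set V) \ (E ⊓ E' : Submodule F V) = (E : Set V) \ E' := by
      ext v; simp only [Set.mem_sdiff, SetLike.mem_coe, Submodule.mem_inf]; tauto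
    rw [this]
    exact htD.mono hDB

/-- the alternation lemma (verbatim port of `CK.alternate`) -/
theorem alternate {Bo : Subgroup G} : ∀ (m : ℕ) (P Q : Subgroup G), Bo ≤ P → Bo ≤ Q →
    Nat.card P = (Nat.card F + 1) * Nat.card Bo → Nat.card Q = (Nat.card F + 1) * Nat.card Bo →
    ∀ (U E : Submodule F V), Nat.card E = m → E ≤ U → Nat.card U = Nat.card F * Nat.card E →
    Inv P (U : Set V) → Inv Q (E : Set V) → Tr Bo ((U : Set V) \ E) →
    ∃ Z : Submodule F V, Z ≤ E ∧ Inv P (Z : Set V) ∧ Inv Q (Z : Set V) ∧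
      ∀ S : Submodule F V, S ≤ E → Inv Bo (S : Set V) → S ≤ Z ∨ (Z ≤ S ∧ ∃ i : ℕ,
        Nat.card E = Nat.card F ^ i * Nat.card S ∧ (Even i → ¬ Inv P (S : Set V)) ∧
          (Odd i → ¬ Inv Q (S : Set V))) := by
  intro m
  induction m using Nat.strong_induction_on with
  | _ m ih =>
    intro P Q hP hQ h3 h3' U E hm hEU hc hU hE ht
    by_cases hn : Inv P (E : Set V)
    · exact ⟨E, le_rfl, hn, hE, fun S hS _ => Or.inl hS⟩
    obtain ⟨E2, a1, a2, a3, a4⟩ := panel hP h3 hEU hc hU (hE.mono hQ) ht hn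
    have hp : 0 < Nat.card E2 := Nat.card_pos
    have hq := two_le_q (F := F)
    obtain ⟨Z, z1, z2, z3, z4⟩ := ih (Nat.card E2) (by nlinarith) Q P hQ hP h3' h3 E E2 rfl a1 a2 hE a3 a4
    refine ⟨Z, z1.trans a1, z3, z2, fun S hS hSi => ?_⟩
    by_cases hS2 : S ≤ E2
    · rcases z4 S hS2 hSi with h | ⟨h, i, i1, i2, i3⟩
      · exact Or.inl h
      · refine Or.inr ⟨h, i + 1, by rw [a2, i1]; ring, fun he => i3 ?_, fun he => i2 ?_⟩
        · exact Nat.not_even_iff_odd.1 (Nat.even_add_one.1 he)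
        · exact Nat.not_odd_iff_even.1 (Nat.odd_add_one.1 he)
    · obtain ⟨z, hz, hz'⟩ := SetLike.not_le_iff_exists.1 hS2
      have : E ≤ S := by
        refine le_of_diff_subset (hS hz) hz' fun u hu => ?_
        obtain ⟨d, hd, rfl⟩ := a4 z ⟨hS hz, hz'⟩ u hu
        exact hSi d hd z hz
      obtain rfl := le_antisymm hS this
      exact Or.inr ⟨z1.trans a1, 0, by simp, fun _ => hn, fun h => absurd h (by decide)⟩

end Cfsg.Agent.Sing
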