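import Cfsg.Agent.Sing.Large2
import Cfsg.Agent.Sing.Panel

/-!
# Cameron–Kantor over `𝔽_q`: the parameter `q²` is impossible in odd dimension
(port of `Proj/CKFour`)

Same dictionary as in `Sing/Sp`; read `Proj/CKFour` side by side.  Define `Ch` as there
(`Lam x y = pl F φ ψ`, `flip.Lam φ ψ = pl F x y`).  `three`: `(q-1) τ = q² - 1`, so `τ = q + 1` in
`Sp.tau`, i.e. `|F| = |P| = (q+1)|Bo|`.  `half`: `B = {0} ∪ orb X x`, `A = F∙φ ∪ orb X ψ` are
subspaces (scalars: `Pr.smul_mem_orb`; sums: `cone1`, resp. `cone1` for `+ dφ` and `cone2` with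
`Dl (pl φ a) ≤ ps φ ⊓ ps a`; if `b = c a + d φ` then `a + b = (1+c) a + d φ`), and
`|A| = q |B|` from `ncard_orb_mul'` (`orb Q ψ = pl φ ψ \ F∙φ` has `q² - q` elements).
`main`: verbatim, with `Pr.of_cop` (`q + 1` is prime to `q`), `alternate`, `rb`.
-/

set_option autoImplicit false
set_option linter.unusedSectionVars false
set_option linter.style.haveILetI false

namespace Cfsg.Agent.Sing

open MulAction Pointwise Cfsg.Agent.Proj.CK

variable {F G V V' : Type*} [Field F] [Group G] [AddCommGroup V] [AddCommGroup V']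
  [Module F V] [Module F V'] [DistribMulAction G V] [DistribMulAction G V']
  [SMulCommClass G F V] [SMulCommClass G F V'] [Finite F] [Finite V] [Finite V']
  [Finite G]

theorem conj_mem_ps {g k : G} {x : V} (h : g ∈ ps F G (k • x)) : k⁻¹ * g * k ∈ ps F G x := by
  rw [mem_stabilizer_iff] at h ⊢
  rw [mul_smul, mul_smul, smul_pt k, h, smul_pt, inv_smul_smul]

namespace St

variable {S : St F G V V'}

variable (S) in
/-- chambers -/
structure Ch (x y : V) (φ ψ : V') : Prop where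
  sp : S.Sp x y φ
  sp' : S.flip.Sp φ ψ x
  lam : S.Lam x y = pl F φ ψ
  lam' : S.flip.Lam φ ψ = pl F x y

theorem Ch.flip {x y : V} {φ ψ : V'} (c : S.Ch x y φ ψ) : S.flip.Ch φ ψ x y :=
  ⟨c.sp', c.sp, c.lam', c.lam⟩

theorem Hyp.exists_ch (H : S.Hyp (Nat.card F ^ 2)) : ∃ x y φ ψ, S.Ch x y φ ψ := by
  obtain ⟨x, φ, h1, h2, h3⟩ := S.exists_flag
  obtain ⟨y, h⟩ := S.exists_sp h1 h2 h3
  have cL := H.hγ.cL h.hx h.yx
  have hq := two_le_q (F := F)
  obtain ⟨ψ, b1, b2⟩ := exists_not_mem_of_card_lt (T := S.Lam x y) (X := F ∙ φ)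
    (by rw [cL, card_pt h2]; nlinarith)
  rcases mem_Lam.1 b1 with b1 | b1
  · exact absurd (b1 ▸ zero_mem _) b2
  have a1 := H.lj h b1 b2
  have a2 := H.lj h.symm b1.symm b2
  refine ⟨x, y, φ, ψ, h, a1, ?_, ?_⟩
  · refine (eq_of_le_of_card_ge (pl_le.2 ⟨mem_Lam.2 (Or.inr h), mem_Lam.2 (Or.inr b1)⟩) ?_).symm
    rw [cL, card_pl h2 b2]
  · refine (eq_of_le_of_card_ge (pl_le.2 ⟨mem_Lam.2 (Or.inr a1), mem_Lam.2 (Or.inr a2)⟩) ?_).symm
    rw [H.hγ'.cL h2 b2, card_pl h1 h.yx]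

namespace Ch

variable {x y : V} {φ ψ : V'} (c : S.Ch x y φ ψ)
include c

theorem stab_le : stabilizer G (pl F x y) ≤ stabilizer G (pl F φ ψ) := by
  intro g hg
  rw [mem_stabilizer_iff, ← c.lam, ← Lam_smul]
  exact Lam_congr c.sp.hx c.sp.yx (smul_ne0 c.sp.hx) (smul_not_mem_pt c.sp.yx)
    (by rw [← smul_pl]; exact hg)

theorem stab_eq : stabilizer G (pl F x y) = stabilizer G (pl F φ ψ) :=
  le_antisymm c.stab_le c.flip.stab_le

theorem three :
    Nat.card ↥(ps F G x ⊓ ps F G φ) =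
      (Nat.card F + 1) * Nat.card ↥(ps F G x ⊓ stabilizer G (pl F x y) ⊓ ps F G φ) ∧
    Nat.card ↥(ps F G x ⊓ stabilizer G (pl F x y)) =
      (Nat.card F + 1) * Nat.card ↥(ps F G x ⊓ stabilizer G (pl F x y) ⊓ ps F G φ) := by
  obtain ⟨τ, -, -, h1, -, h2, h3, -⟩ := c.sp.tau
  rw [c.sp.ncard_orb', c.lam, card_pl c.sp'.hx c.sp'.yx] at h1
  have hq := two_le_q (F := F)
  have : τ = Nat.card F + 1 := by
    apply Nat.eq_of_mul_eq_mul_left (show 0 < Nat.card F - 1 by omega)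
    rw [← h1, mul_comm, ← Nat.sq_sub_sq, one_pow]
  exact ⟨this ▸ h2, this ▸ h3⟩

theorem Bo_eq : ps F G φ ⊓ stabilizer G (pl F φ ψ) ⊓ ps F G x =
    ps F G x ⊓ stabilizer G (pl F x y) ⊓ ps F G φ := by
  rw [c.stab_eq]; ext g; simp only [Subgroup.mem_inf]; tauto

theorem pair_le : ps F G φ ⊓ ps F G ψ ≤ ps F G φ ⊓ stabilizer G (pl F φ ψ) :=
  fun _ hk => ⟨hk.1, ps_inf_le_pl φ ψ hk⟩

theorem half : ∃ (B : Submodule F V) (A : Submodule F V'),
    (∀ v, v ∈ B ↔ v = 0 ∨ v ∈ orb (ps F G x ⊓ ps F G φ ⊔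
      ps F G φ ⊓ stabilizer G (pl F φ ψ)) x) ∧
    (∀ χ, χ ∈ A ↔ χ ∈ (F ∙ φ) ∨ χ ∈ orb (ps F G x ⊓ ps F G φ ⊔
      ps F G φ ⊓ stabilizer G (pl F φ ψ)) ψ) ∧ Nat.card A = Nat.card F * Nat.card B := by
  set Fl := ps F G x ⊓ ps F G φ with hF
  set Q := ps F G φ ⊓ stabilizer G (pl F φ ψ) with hQ
  set X := Fl ⊔ Q with hX
  have hXφ : X ≤ ps F G φ := sup_le inf_le_right inf_le_left
  have hZQ : S.Z ≤ Q := le_inf (S.Z_le_stab' _) (S.Z_le_stab' _)
  have hZ : S.Z ≤ X := hZQ.trans le_sup_right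
  have nψ : ∀ χ ∈ orb X ψ, χ ∉ (F ∙ φ) := by
    rintro _ ⟨k, hk, rfl⟩
    exact smul_not_mem (hXφ hk) c.sp'.yx
  have sB : ∀ (t : F), ∀ v ∈ orb X x, t • v = 0 ∨ t • v ∈ orb X x := by
    intro t v hv
    by_cases ht : t = 0
    · exact Or.inl (by rw [ht, zero_smul])
    · exact Or.inr (S.smul_mem_orb hZ hv ht)
  have sA : ∀ (t : F), ∀ v ∈ orb X ψ, t • v = 0 ∨ t • v ∈ orb X ψ := by
    intro t v hv
    by_cases ht : t = 0
    · exact Or.inl (by rw [ht, zero_smul])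
    · exact Or.inr (S.flip.smul_mem_orb hZ hv ht)
  let B : Submodule F V :=
    { carrier := {v | v = 0 ∨ v ∈ orb X x}
      zero_mem' := Or.inl rfl
      smul_mem' := by
        rintro t v (rfl | hv)
        exacts [Or.inl (smul_zero t), sB t v hv]
      add_mem' := by
        rintro a b (rfl | ha) hb
        · simpa using hb
        rcases hb with rfl | hb
        · exact Or.inr (by simpa using ha)
        by_cases e : b ∈ (F ∙ a)
        · obtain ⟨t, rfl⟩ := mem_pt.1 e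
          have := sB (1 + t) a ha
          rwa [add_smul, one_smul] at this
        obtain ⟨k, hk, rfl⟩ := ha
        obtain ⟨g, g1, g2⟩ := S.cone1 (smul_ne0 (g := k) c.sp.hx) c.sp.hφ
          (by
            rw [S.inv']
            exact S.mem_perp_pt.1 (pt_le.2 (S.mem_perp_pt.2 c.sp.xφ)
              (stab_mem (hXφ (X.inv_mem hk)) (self_mem_pt φ)))) e (self_mem_pt _)
        have : k⁻¹ * g * k ∈ X := (le_sup_left : Fl ≤ X) ⟨conj_mem_ps g1.1,
          (ps F G φ).mul_mem ((ps F G φ).mul_mem (hXφ (X.inv_mem hk)) g1.2) (hXφ hk)⟩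
        have hg : g ∈ X := by
          simpa [mul_assoc] using X.mul_mem (X.mul_mem hk this) (X.inv_mem hk)
        right
        rw [add_comm, ← g2]
        exact inv_orb X x g hg b hb }
  let A : Submodule F V' :=
    { carrier := {χ | χ ∈ (F ∙ φ) ∨ χ ∈ orb X ψ}
      zero_mem' := Or.inl (zero_mem _)
      smul_mem' := by
        rintro t v (hv | hv)
        · exact Or.inl (Submodule.smul_mem _ t hv)
        · exact (sA t v hv).imp_left fun h => by rw [h]; exact zero_mem _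
      add_mem' := by
        have h1 : ∀ a ∈ (F ∙ φ), ∀ b ∈ orb X ψ, b + a ∈ orb X ψ := by
          intro a ha b hb
          obtain ⟨t, t1, t2⟩ := S.flip.cone1 c.sp'.hx c.sp'.hφ c.sp'.xφ (nψ b hb) ha
          rw [← t2]
          exact inv_orb X ψ t ((le_sup_left : Fl ≤ X) ⟨t1.2, t1.1⟩) b hb
        rintro a b (ha | ha) (hb | hb)
        · exact Or.inl (add_mem ha hb)
        · exact Or.inr (add_comm a b ▸ h1 a ha b hb)
        · exact Or.inr (h1 b hb a ha)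
        have na := nψ a ha
        by_cases e : b ∈ pl F φ a
        · obtain ⟨d, t, rfl⟩ := mem_pl.1 e
          have e1 : a + (d • φ + t • a) = (1 + t) • a + d • φ := by
            rw [add_smul, one_smul]; abel
          rw [e1]
          rcases sA (1 + t) a ha with h | h
          · exact Or.inl (by rw [h, zero_add]; exact smul_mem_pt d φ)
          · exact Or.inr (h1 _ (smul_mem_pt d φ) _ h)
        obtain ⟨g, g1, g2⟩ := S.flip.cone2 c.sp.hφ na e (right_mem_pl _ _)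
        obtain ⟨k, hk, rfl⟩ := ha
        have : k⁻¹ * g * k ∈ X := (le_sup_right : Q ≤ X) (c.pair_le ⟨
          (ps F G φ).mul_mem ((ps F G φ).mul_mem (hXφ (X.inv_mem hk))
            (mem_Dl.1 g1 _ (left_mem_pl _ _))) (hXφ hk),
          conj_mem_ps (mem_Dl.1 g1 _ (right_mem_pl _ _))⟩)
        have hg : g ∈ X := by
          simpa [mul_assoc] using X.mul_mem (X.mul_mem hk this) (X.inv_mem hk)
        right
        rw [add_comm, ← g2]
        exact inv_orb X ψ g hg b hb }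
  refine ⟨B, A, fun _ => Iff.rfl, fun _ => Iff.rfl, ?_⟩
  have e1 : orb X x = (B : Set V) \ (⊥ : Submodule F V) := by
    ext v
    refine ⟨fun h => ⟨Or.inr h, ?_⟩, fun h => h.1.resolve_left h.2⟩
    obtain ⟨k, -, rfl⟩ := h
    exact smul_ne0 c.sp.hx
  have e2 : orb X ψ = (A : Set V') \ (F ∙ φ) := by
    ext v
    exact ⟨fun h => ⟨Or.inr h, nψ v h⟩, fun h => h.1.resolve_left h.2⟩
  have e5 : orb Q ψ = (pl F φ ψ : Set V') \ (F ∙ φ) := by
    ext v
    constructor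
    · rintro ⟨k, hk, rfl⟩
      exact ⟨stab_mem hk.2 (right_mem_pl _ _), smul_not_mem hk.1 c.sp'.yx⟩
    · rintro ⟨a1, a2⟩
      obtain ⟨k, hk, rfl⟩ := S.flip.orb_line c.sp'.hx c.sp'.hφ c.sp'.xφ c.sp'.yx a1 a2
      exact ⟨k, hk.1, rfl⟩
  have h1 := S.ncard_orb_mul' hZ c.sp.hx
  have h2 := S.flip.ncard_orb_mul' hZ c.sp'.hy
  have h3 := S.flip.ncard_orb_mul' hZQ c.sp'.hy
  have p1 := ncard_orb_pos X x
  have p2 := ncard_orb_pos X ψ
  rw [e1, ncard_diff bot_le, card_bot] at h1 p1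
  rw [e2, ncard_diff (fun v hv => Or.inl hv), card_pt c.sp.hφ] at h2 p2
  rw [e5, ncard_diff (pt_le_pl _ _), card_pl c.sp'.hx c.sp'.yx, card_pt c.sp.hφ] at h3
  have e3 : X ⊓ ps F G x = Fl :=
    le_antisymm (fun k hk => ⟨hk.2, hXφ hk.1⟩) (le_inf le_sup_left inf_le_left)
  have e4 : X ⊓ ps F G ψ = Q ⊓ ps F G ψ :=
    le_antisymm (fun k hk => ⟨c.pair_le ⟨hXφ hk.1, hk.2⟩, hk.2⟩) (inf_le_inf_right _ le_sup_right)
  rw [e3] at h1
  rw [e4] at h2
  have h4 := c.three.1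
  have h5 := c.flip.three.2
  rw [← hF] at h4
  rw [c.Bo_eq, ← h4, ← hQ] at h5
  have hp : 0 < Nat.card ↥(Q ⊓ ps F G ψ) := Nat.card_pos
  have hq := two_le_q (F := F)
  have h6 : Nat.card Q = Nat.card F * Nat.card ↥(Q ⊓ ps F G ψ) := by
    apply Nat.eq_of_mul_eq_mul_left (show 0 < Nat.card F - 1 by omega)
    rw [← h3, ← mul_assoc, Nat.sub_one_mul, pow_two]
  have : Nat.card A - Nat.card F = (Nat.card B - 1) * Nat.card F := by
    apply Nat.eq_of_mul_eq_mul_right hp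
    rw [h2, mul_assoc, ← h6, h5, h1]
  obtain ⟨b, hb⟩ : ∃ b, Nat.card B = b + 1 := ⟨Nat.card B - 1, by omega⟩
  rw [hb, Nat.add_sub_cancel] at this
  rw [hb, mul_add, mul_one, mul_comm]
  omega

theorem main (hs : Even S.s) {B R : Submodule F V} {A D : Submodule F V'}
    (hB : ∀ v, v ∈ B ↔ v = 0 ∨ v ∈ orb (ps F G x ⊓ ps F G φ ⊔
      ps F G φ ⊓ stabilizer G (pl F φ ψ)) x)
    (hA : ∀ χ, χ ∈ A ↔ χ ∈ (F ∙ φ) ∨ χ ∈ orb (ps F G x ⊓ ps F G φ ⊔
      ps F G φ ⊓ stabilizer G (pl F φ ψ)) ψ) (cA : Nat.card A = Nat.card F * Nat.card B)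
    (hD : ∀ v, v ∈ D ↔ v = 0 ∨ v ∈ orb (ps F G φ ⊓ ps F G x ⊔
      ps F G x ⊓ stabilizer G (pl F x y)) φ)
    (hR : ∀ χ, χ ∈ R ↔ χ ∈ (F ∙ x) ∨ χ ∈ orb (ps F G φ ⊓ ps F G x ⊔
      ps F G x ⊓ stabilizer G (pl F x y)) y) (cR : Nat.card R = Nat.card F * Nat.card D)
    (hle : Nat.card B ≤ Nat.card D) : False := by
  rw [inf_comm (ps F G φ) (ps F G x)] at hD hR
  set Fl := ps F G x ⊓ ps F G φ with hF
  set Q := ps F G φ ⊓ stabilizer G (pl F φ ψ) with hQ
  set P := ps F G x ⊓ stabilizer G (pl F x y) with hP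
  set X := Fl ⊔ Q with hX
  set Y := Fl ⊔ P with hY
  set Bo := P ⊓ ps F G φ with hBo
  have hq := two_le_q (F := F)
  have hXφ : X ≤ ps F G φ := sup_le inf_le_right inf_le_left
  have hYx : Y ≤ ps F G x := sup_le inf_le_left inf_le_left
  have hBF : Bo ≤ Fl := inf_le_inf_right _ inf_le_left
  have hBP : Bo ≤ P := inf_le_left
  have hFX : Fl ≤ X := le_sup_left
  have hFY : Fl ≤ Y := le_sup_left
  have hQX : Q ≤ X := le_sup_right
  have hPY : P ≤ Y := le_sup_right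
  have hZ : S.Z ≤ Bo := le_inf (le_inf (S.Z_le_stab _) (S.Z_le_stab _)) (S.Z_le_stab' _)
  have c1 : Nat.card Fl = (Nat.card F + 1) * Nat.card Bo := c.three.1
  have c2 : Nat.card P = (Nat.card F + 1) * Nat.card Bo := c.three.2
  have iB : Inv X (B : Set V) := fun g hg v hv => (hB _).2 <| by
    rcases (hB v).1 hv with rfl | h
    exacts [Or.inl (smul_zero g), Or.inr (inv_orb X x g hg v h)]
  have iD : Inv Y (D : Set V') := fun g hg v hv => (hD _).2 <| by
    rcases (hD v).1 hv with rfl | h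
    exacts [Or.inl (smul_zero g), Or.inr (inv_orb Y φ g hg v h)]
  have iA : Inv X (A : Set V') := fun g hg v hv => (hA _).2 <| by
    rcases (hA v).1 hv with h | h
    exacts [Or.inl (inv_pt hXφ g hg v h), Or.inr (inv_orb X ψ g hg v h)]
  have iR : Inv Y (R : Set V) := fun g hg v hv => (hR _).2 <| by
    rcases (hR v).1 hv with h | h
    exacts [Or.inl (inv_pt hYx g hg v h), Or.inr (inv_orb Y y g hg v h)]
  have xB : x ∈ B := (hB x).2 (Or.inr (mem_orb_self _ _))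
  have LB : pl F x y ≤ B := by
    refine pl_le.2 ⟨xB, ?_⟩
    obtain ⟨g, g1, g2, g3⟩ := S.swap c.sp.hx c.sp.hy c.sp.hφ c.sp.xφ c.sp.yφ
    rw [smul_pt] at g3
    exact (hB _).2 (Or.inr ⟨g, hQX ⟨g1, c.stab_le (smul_pl_eq (by rw [g2]; exact right_mem_pl _ _)
      (pt_le_pl x y (g3 ▸ self_mem_pt _)))⟩, g2⟩)
  have LR : pl F x y ≤ R :=
    pl_le.2 ⟨(hR x).2 (Or.inl (self_mem_pt x)), (hR _).2 (Or.inr (mem_orb_self _ _))⟩
  have iL : Inv P (S.perp (pl F x y) : Set V') := S.inv_perp (inv_iff_le_stab.2 inf_le_right)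
  have ix : Inv Y (S.perp (F ∙ x) : Set V') := S.inv_perp (inv_pt hYx)
  obtain ⟨Z, z1, z2, z3, z4⟩ := alternate _ Fl P hBF hBP c1 c2 (S.perp (F ∙ x))
    (S.perp (pl F x y)) rfl (S.perp_anti (pt_le_pl _ _)) (by
      rw [S.card_perp_pt c.sp.hx, S.card_perp_pl c.sp.hx c.sp.yx, pow_succ']) (ix.mono hFY)
    iL (S.flip.of_cop ((S.a3 c.sp.hx c.sp.yx).mono c.flip.pair_le) ((ix.mono hPY).diff iL) hZ hBP
      c2 (by simp) (fun h => h.2 (zero_mem _)) (S.ncard_a3 c.sp.hx c.sp.yx))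
  have hp : 0 < Nat.card B := Nat.card_pos
  rcases z4 (S.perp B) (S.perp_anti LB) (S.inv_perp (iB.mono (hBF.trans hFX))) with
    h | ⟨b1, i, b2, b3, b4⟩
  · have : Z ≤ S.perp R := by
      intro χ hχ v hv
      rcases (hR v).1 hv with h | ⟨k, hk, rfl⟩
      · exact z1 hχ v (pt_le_pl x y h)
      · rw [S.inv']
        exact z1 (z2.sup z3 _ (Y.inv_mem hk) χ hχ) y (right_mem_pl _ _)
    have := card_le_of_le (S.le_of_perp_le (h.trans this))
    nlinarith
  have hi : Odd i := Nat.not_even_iff_odd.1 fun h => b3 h (S.inv_perp (iB.mono hFX))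
  have nP : ¬ Inv P (B : Set V) := fun h => b4 hi (S.inv_perp h)
  have BR : B ≤ R := by
    rcases z4 (S.perp R) (S.perp_anti LR) (S.inv_perp (iR.mono (hBF.trans hFY))) with
      h | ⟨-, j, -, a3, a4⟩
    · exact S.le_of_perp_le (h.trans b1)
    · rcases Nat.even_or_odd j with h | h
      · exact absurd (S.inv_perp (iR.mono hFY)) (a3 h)
      · exact absurd (S.inv_perp (iR.mono hPY)) (a4 h)
  have cB : Nat.card B = Nat.card F ^ (i + 2) := by
    have := S.card_perp_mul B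
    rw [S.card_perp_pl c.sp.hx c.sp.yx] at b2
    apply Nat.eq_of_mul_eq_mul_right (Nat.card_pos (α := S.perp B))
    rw [this, show S.s + 3 = (S.s + 1) + 2 by ring, pow_add _ (S.s + 1), b2]; ring
  obtain ⟨Z', y1, y2, y3, y4⟩ := alternate _ P Fl hBP hBF c2 c1 (⊤ : Submodule F V)
    (S.flip.perp (F ∙ φ)) rfl le_top (by
      rw [S.flip.card_perp_pt c.sp.hφ, card_top, S.cV, pow_succ', flip_s]) (inv_top _)
    (S.flip.inv_perp (A := Fl) (inv_pt fun _ h => h.2)) c.sp.tr_Bo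
  have DA : D ≤ A := by
    rcases y4 (S.flip.perp A) (S.flip.perp_anti fun v hv => (hA v).2 (Or.inl hv))
      (S.flip.inv_perp (iA.mono (hBF.trans hFX))) with h | ⟨-, j, a2, -, a4⟩
    · refine S.flip.le_of_perp_le (h.trans ?_)
      intro v hv χ hχ
      rcases (hD χ).1 hχ with rfl | ⟨k, hk, rfl⟩
      · simp
      · rw [S.flip.inv']
        exact y1 (y3.sup y2 _ (Y.inv_mem hk) v hv) φ (self_mem_pt φ)
    · exfalso
      have := S.flip.card_perp_mul A
      rw [S.flip.card_perp_pt c.sp.hφ] at a2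
      rw [cA, cB, pow_succ' _ (S.flip.s + 2), a2, mul_assoc] at this
      have h2 : Nat.card F ^ (i + 2) = Nat.card F ^ j :=
        Nat.eq_of_mul_eq_mul_right (Nat.card_pos (α := S.flip.perp A))
          (Nat.eq_of_mul_eq_mul_left (by omega) this)
      refine a4 ?_ (S.flip.inv_perp (iA.mono hFX))
      rw [← Nat.pow_right_injective hq h2]
      exact hi.add_even (by decide)
  by_cases e : D = A
  · apply nP
    intro π hπ v hv
    rcases (hB v).1 hv with rfl | ⟨k, hk, rfl⟩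
    · simp
    have iA' : Inv Y (A : Set V') := e ▸ iD
    have φA : φ ∈ A := (hA φ).2 (Or.inl (self_mem_pt φ))
    have a1 : k⁻¹ • π⁻¹ • φ ∈ D := by
      rw [e]; exact iA _ (X.inv_mem hk) _ (iA' _ (Y.inv_mem (hPY hπ)) _ φA)
    rcases (hD _).1 a1 with h | ⟨π', h1, h2⟩
    · exact absurd h (smul_ne0 (smul_ne0 c.sp.hφ))
    have u1 : (π * k * π') • φ = φ := by
      rw [mul_smul, mul_smul, h2, smul_inv_smul, smul_inv_smul]
    have u2 : (π * k * π') • ψ ∈ A := by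
      rw [mul_smul, mul_smul]
      exact iA' _ (hPY hπ) _ (iA _ hk _ (iA' _ h1 _ ((hA ψ).2 (Or.inr (mem_orb_self _ _)))))
    rcases (hA _).1 u2 with h | ⟨k', h3, h4⟩
    · exact absurd h (smul_not_mem (mem_ps_of_eq u1) c.sp'.yx)
    have u3 : k'⁻¹ * (π * k * π') ∈ X := hQX (c.pair_le
      ⟨(ps F G φ).mul_mem (hXφ (X.inv_mem h3)) (mem_ps_of_eq u1), mem_ps_of_eq <| by
        rw [mul_smul, ← h4, inv_smul_smul]⟩)
    have u4 : π * k * π' ∈ X := by simpa using X.mul_mem h3 u3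
    have := iB _ u4 x xB
    obtain ⟨t, t0, ht⟩ := mem_ps.1 (hYx h1)
    rw [mul_smul, mul_smul, ht, smul_comm k, smul_comm π] at this
    exact (B.smul_mem_iff t0).1 this
  have cD : Nat.card D = Nat.card B := by
    have := q_mul_card_le_of_lt DA e
    rw [cA] at this
    exact le_antisymm (Nat.le_of_mul_le_mul_left this (by omega)) hle
  obtain ⟨π, hπ, hπB⟩ : ∃ π ∈ P, π • B ≠ B := by
    by_contra! hc
    exact nP (inv_iff_le_stab.2 hc)
  have eR : B ⊔ π • B = R := by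
    refine eq_of_le_of_card_ge (sup_le BR fun v hv => ?_) ?_
    · simpa using iR _ (hPY hπ) _ (BR (mem_smul_iff.1 hv))
    · have := q_mul_card_le_of_lt (le_sup_left : B ≤ B ⊔ π • B) fun e => hπB
        (eq_of_le_of_card_ge (le_sup_right.trans e.ge) (card_smul π B).ge)
      rwa [cR, cD]
  have iR' : Inv Q (R : Set V) := by
    intro k hk v hv
    rw [← eR] at hv
    obtain ⟨a, ha, b, hb, rfl⟩ := Submodule.mem_sup.1 hv
    rw [smul_add]
    refine R.add_mem (BR (iB _ (hQX hk) _ ha)) ?_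
    have a1 : k • π • φ ∈ S.Lam x y := by
      rw [c.lam]; exact stab_mem hk.2 (stab_mem (c.stab_le hπ.2) (left_mem_pl _ _))
    rcases mem_Lam.1 a1 with h | h
    · exact absurd h (smul_ne0 (smul_ne0 c.sp.hφ))
    obtain ⟨g, g1, g2, g3⟩ := c.sp.conj h
    have hg : g ∈ P := c.flip.pair_le ⟨g1, mem_ps_of_eq g2⟩
    have u : g⁻¹ * k * π ∈ Q := ⟨mem_stabilizer_iff.2 <| by
      rw [mul_smul, mul_smul, smul_pt π, smul_pt k, ← g3, inv_smul_smul],
      Subgroup.mul_mem _ (Subgroup.mul_mem _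
        (Subgroup.inv_mem _ (c.stab_le hg.2)) hk.2) (c.stab_le hπ.2)⟩
    have := iR _ (hPY hg) _ (BR (iB _ (hQX u) _ (mem_smul_iff.1 hb)))
    simpa [mul_smul] using this
  refine rb (S := S) c.sp.hx c.sp.hφ hFX hXφ BR ?_ xB iB ((iR.mono hFY).sup iR')
    (fun v hv v0 => ((hB v).1 hv).resolve_left v0) (by rw [cR, cD]) (by
      rw [cB]; exact Nat.pow_le_pow_right (by omega) (by omega))
  by_contra hc
  obtain ⟨z, w1, w2⟩ := SetLike.not_le_iff_exists.1 hc
  have : (⊤ : Submodule F V) ≤ R := by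
    refine le_of_diff_subset (z := z) trivial w2 fun u hu => ?_
    obtain ⟨d, hd, rfl⟩ := c.sp.tr_Bo z ⟨trivial, w2⟩ u hu
    exact iR d (hFY (hBF hd)) z w1
  have h1 : Nat.card R = Nat.card F ^ (S.s + 3) := by rw [top_le_iff.1 this, card_top, S.cV]
  rw [cR, cD, cB, ← pow_succ'] at h1
  have := Nat.pow_right_injective hq h1
  have : i = S.s := by omega
  rw [this] at hi
  exact Nat.not_even_iff_odd.2 hi hs

end Ch

end St

theorem St.Hyp.false {S : St F G V V'} {γ : ℕ} (H : S.Hyp γ) (hs : Even S.s) : False := by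
  obtain rfl := H.eq_four'
  obtain ⟨x, y, φ, ψ, c⟩ := H.exists_ch
  obtain ⟨B, A, h1, h2, h3⟩ := c.half
  obtain ⟨D, R, h4, h5, h6⟩ := c.flip.half
  rcases le_total (Nat.card B) (Nat.card D) with h | h
  · exact c.main hs h1 h2 h3 h4 h5 h6 h
  · exact c.flip.main hs h4 h5 h6 h1 h2 h3 h

end Cfsg.Agent.Sing
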