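import Cfsg.Agent.Proj.CKTri

/-!
# No non-singular alternating trilinear form in odd dimension `> 3` over a finite field

Port of `Proj/CKTri.no_trilinear_coord / no_trilinear` (there `F = ZMod 2`).
In coordinates `a i j k = f (e i) (e j) (e k)` is alternating (skew in each pair, zero on equal
indices); `M = (∑ k, X k * C (a k i j))` is skew, `M *ᵥ X = 0`.  Since `n` is odd,
`adj(M)ᵀ = adj(-M) = (-1)^(n-1) adj M = adj M` (`adjugate_smul`).  `h3`: if `c i ≠ 0` then
`eval c (adj M i i) ≠ 0` (a kernel vector `v` has `v i = 0` and is a multiple of `c`).  The rest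
(`adj M i i = c₀ * X i ^ 2`, `deg c₀ = n - 3 < n`, `c₀(0) = 0`, Chevalley–Warning
`char_dvd_card_solutions (ringChar F)`) is verbatim.
-/

set_option autoImplicit false

namespace Cfsg.Agent.Sing

open MvPolynomial Matrix

theorem tri_key {F : Type*} [Field F] {ι : Type*} [Fintype ι] [DecidableEq ι]
    (a : ι → ι → ι → F) (s12 : ∀ i j k, a i j k = - a j i k) (s23 : ∀ i j k, a i j k = - a i k j)
    (d : ∀ i k, a i k k = 0) {R : Type*} [CommRing R] [Algebra F R] (u : ι → R) (i : ι) :
    ∑ l, (∑ k, u k * algebraMap F R (a k i l)) * u l = 0 := by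
  simp only [Finset.sum_mul]
  rw [← Fintype.sum_prod_type']
  refine Finset.sum_involution (fun p _ => p.swap) ?_ ?_ (fun _ _ => Finset.mem_univ _)
    (fun _ _ => rfl)
  · rintro ⟨l, k⟩ -
    have h1 : a l i k = - a k i l := by rw [s12 l, s23 i l k, s12 i k l]; simp
    simp only [Prod.fst_swap, Prod.snd_swap, h1, map_neg]
    ring
  · rintro ⟨l, k⟩ - h e
    have : k = l := congrArg Prod.fst e
    subst this
    apply h
    simp only
    rw [s12, d, neg_zero, map_zero]; simp

theorem no_trilinear_coord {F : Type*} [Field F] [Fintype F] [DecidableEq F] {ι : Type*}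
    [Fintype ι] [DecidableEq ι] (hn : 3 < Fintype.card ι) (ho : Odd (Fintype.card ι))
    (a : ι → ι → ι → F) (s12 : ∀ i j k, a i j k = - a j i k) (s23 : ∀ i j k, a i j k = - a i k j)
    (d : ∀ i k, a i k k = 0)
    (nd : ∀ c v : ι → F, (∀ j, ∑ l, (∑ k, c k * a k j l) * v l = 0) →
      c = 0 ∨ ∃ t : F, v = t • c) : False := by
  set M : Matrix ι ι (MvPolynomial ι F) := Matrix.of fun i j => ∑ k, X k * C (a k i j)
    with hM
  have h1 : M *ᵥ X = 0 := by
    ext1 i
    exact tri_key a s12 s23 d X i
  obtain ⟨i₀, i₁, hi⟩ := Fintype.exists_pair_of_one_lt_card (α := ι) (by omega)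
  have h2 : M.det = 0 := exists_mulVec_eq_zero_iff.1 ⟨X, fun h => X_ne_zero i₀ (congrFun h i₀), h1⟩
  have h3 : ∀ (c : ι → F) (i : ι), c i ≠ 0 → eval c (M.adjugate i i) ≠ 0 := by
    intro c i hc
    rw [adjugate_apply, RingHom.map_det, Ne, ← exists_mulVec_eq_zero_iff]
    rintro ⟨v, v0, hv⟩
    have e1 : v i = 0 := by
      have := congrFun hv i
      simpa [mulVec, dotProduct, Pi.single_apply, apply_ite] using this
    have e2 : ∀ j, j ≠ i → ∑ l, (∑ k, c k * a k j l) * v l = 0 := by
      intro j hj
      have := congrFun hv j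
      simpa [mulVec, dotProduct, updateRow_ne hj, hM] using this
    have e3 : ∑ j, c j * ∑ l, (∑ k, c k * a k j l) * v l = 0 := by
      simp only [Finset.mul_sum]
      rw [Finset.sum_comm]
      refine Finset.sum_eq_zero fun l _ => ?_
      have := tri_key a s12 s23 d (R := F) c l
      simp only [Algebra.algebraMap_self, RingHom.id_apply] at this
      rw [← zero_mul (- v l), ← this, Finset.sum_mul]
      refine Finset.sum_congr rfl fun j _ => ?_
      have e : ∑ k, c k * a k j l = - ∑ k, c k * a k l j := by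
        rw [← Finset.sum_neg_distrib]
        exact Finset.sum_congr rfl fun k _ => by rw [s23 k j l]; ring
      rw [e]; ring
    rw [Finset.sum_eq_single i (fun j _ hj => by rw [e2 j hj, mul_zero]) (by simp)] at e3
    replace e3 := (mul_eq_zero.1 e3).resolve_left hc
    rcases nd c v (fun j => by by_cases hj : j = i; exacts [hj ▸ e3, e2 j hj]) with h | ⟨t, h⟩
    · rw [h] at hc; exact hc rfl
    · rw [h, Pi.smul_apply, smul_eq_mul] at e1
      rw [(mul_eq_zero.1 e1).resolve_right hc, zero_smul] at h
      exact v0 h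
  have h4 : M.adjugate i₀ i₀ ≠ 0 := fun h => h3 (fun _ => 1) i₀ one_ne_zero (by rw [h, map_zero])
  have h5 : ∀ i j, M.adjugate i j * X i₀ = M.adjugate i₀ j * X i := by
    intro i j
    have a1 : M *ᵥ (fun i => M.adjugate i j) = 0 := by
      ext1 k
      have := congrFun (congrFun (mul_adjugate M) k) j
      rw [h2, zero_smul] at this
      exact this
    set w : ι → MvPolynomial ι F :=
      (X i₀ : MvPolynomial ι F) • (fun i => M.adjugate i j) - M.adjugate i₀ j • X with hw
    have a2 : M *ᵥ w = 0 := by rw [hw, mulVec_sub, mulVec_smul, mulVec_smul, a1, h1]; simp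
    have a3 : w i₀ = 0 := by simp [hw, mul_comm]
    have a4 : (M.updateRow i₀ (Pi.single i₀ 1)) *ᵥ w = 0 := by
      ext1 k
      by_cases hk : k = i₀
      · subst hk
        simp [mulVec, a3]
      · have := congrFun a2 k
        simpa [mulVec, updateRow_ne hk] using this
    have := congrFun (eq_zero_of_mulVec_eq_zero (by rwa [← adjugate_apply]) a4) i
    simp only [hw, Pi.sub_apply, Pi.smul_apply, smul_eq_mul, Pi.zero_apply] at this
    linear_combination this
  have h6 : ∀ i j, M.adjugate i j = M.adjugate j i := by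
    have : Mᵀ = (-1 : MvPolynomial ι F) • M := by
      ext1 i j
      simp only [hM, transpose_apply, of_apply, Matrix.smul_apply, smul_eq_mul, Finset.mul_sum]
      exact Finset.sum_congr rfl fun k _ => by rw [s23 k j i, map_neg]; ring
    intro i j
    have he : Even (Fintype.card ι - 1) := Nat.Odd.sub_odd ho odd_one
    rw [← transpose_apply M.adjugate j i, adjugate_transpose, this, adjugate_smul, he.neg_one_pow,
      one_smul]
  have h7 : ∀ i, M.adjugate i i * X i₀ ^ 2 = M.adjugate i₀ i₀ * X i ^ 2 := by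
    intro i
    have a1 := h5 i i
    have a2 := h5 i i₀
    rw [h6 i₀ i] at a1
    linear_combination X i₀ * a1 + X i * a2
  obtain ⟨c, hc⟩ : (X i₀ : MvPolynomial ι F) ^ 2 ∣ M.adjugate i₀ i₀ := by
    refine X_prime.pow_dvd_of_dvd_mul_right 2 (b := X i₁ ^ 2) ?_ ⟨M.adjugate i₁ i₁, ?_⟩
    · intro h
      exact hi (X_dvd_X.1 (X_prime.dvd_of_dvd_pow h))
    · rw [← h7, mul_comm]
  have h8 : ∀ i, M.adjugate i i = c * X i ^ 2 := by
    intro i
    apply mul_right_cancel₀ (pow_ne_zero 2 (X_ne_zero i₀))
    rw [h7, hc]; ring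
  have h9 : (M.adjugate i₀ i₀).IsHomogeneous (Fintype.card ι - 1) := by
    rw [adjugate_apply, det_apply']
    refine IsHomogeneous.sum _ _ _ fun σ _ => ?_
    have : ∑ i, (if σ i = i₀ then 0 else 1) = Fintype.card ι - 1 := by
      rw [Equiv.sum_comp σ (fun i => if i = i₀ then 0 else 1), Finset.sum_ite]
      simp [Finset.filter_ne', Finset.card_erase_of_mem]
    rw [← this, ← zero_add (∑ i, _)]
    refine IsHomogeneous.mul ?_ (IsHomogeneous.prod _ _ _ fun i _ => ?_)
    · rw [← map_intCast (C : F →+* MvPolynomial ι F)]; exact isHomogeneous_C _ _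
    · split_ifs with h
      · rw [h, updateRow_self, Pi.single_apply]
        split_ifs
        exacts [isHomogeneous_one _ _, isHomogeneous_zero _ _ _]
      · rw [updateRow_ne h]
        exact IsHomogeneous.sum _ _ _ fun k _ => (isHomogeneous_X _ k).mul (isHomogeneous_C _ _)
  have c0 : c ≠ 0 := by rintro rfl; exact h4 (by rw [hc, mul_zero])
  have h10 : c.totalDegree < Fintype.card ι := by
    have := h9.totalDegree_le
    rw [h8, totalDegree_mul_of_isDomain c0 (pow_ne_zero 2 (X_ne_zero i₀))] at this
    omega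
  have h11 : eval 0 c = 0 := by
    have := h9.coeff_eq_zero (d := Finsupp.single i₀ 1 + Finsupp.single i₀ 1)
      (by simp only [map_add, Finsupp.degree_single]; omega)
    rw [h8, pow_two, ← mul_assoc, coeff_mul_X, ← zero_add (Finsupp.single i₀ 1), coeff_mul_X] at this
    simpa [constantCoeff_eq] using this
  have hp : (ringChar F).Prime := CharP.char_is_prime F (ringChar F)
  have := char_dvd_card_solutions (ringChar F) h10
  rw [Fintype.card_eq_one_iff.2 ⟨⟨0, h11⟩, fun ⟨x, hx⟩ => Subtype.ext (by
    by_contra h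
    obtain ⟨i, hi⟩ := Function.ne_iff.1 h
    apply h3 x i hi
    rw [h8, map_mul, hx, zero_mul])⟩] at this
  exact hp.one_lt.ne' (Nat.dvd_one.1 this)

theorem no_trilinear {F V : Type*} [Field F] [Finite F] [AddCommGroup V] [Module F V] [Finite V]
    (hn : 3 < Module.finrank F V) (ho : Odd (Module.finrank F V))
    (f : V →ₗ[F] V →ₗ[F] V →ₗ[F] F) (a1 : ∀ x z, f x x z = 0) (a2 : ∀ x y, f x y y = 0)
    (nd : ∀ x y, (∀ z, f x y z = 0) → x = 0 ∨ y ∈ (F ∙ x)) : False := by
  classical
  have := Fintype.ofFinite F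
  have s12 : ∀ x y z, f x y z = - f y x z := by
    intro x y z
    have := a1 (x + y) z
    simp only [map_add, LinearMap.add_apply, a1] at this
    linear_combination this
  have s23 : ∀ x y z, f x y z = - f x z y := by
    intro x y z
    have := a2 x (y + z)
    simp only [map_add, LinearMap.add_apply, a2] at this
    linear_combination this
  let e := Module.finBasis F V
  refine no_trilinear_coord (ι := Fin (Module.finrank F V)) (by rwa [Fintype.card_fin])
    (by rwa [Fintype.card_fin])
    (fun i j k => f (e i) (e j) (e k)) (fun _ _ _ => s12 _ _ _) (fun _ _ _ => s23 _ _ _)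
    (fun _ _ => a2 _ _) fun c v h => ?_
  have := nd (e.equivFun.symm c) (e.equivFun.symm v) fun z => by
    rw [← e.equivFun.symm_apply_apply z, e.equivFun_symm_apply (e.equivFun z), map_sum]
    refine Finset.sum_eq_zero fun j _ => ?_
    rw [map_smul, s23, smul_eq_mul]
    refine mul_eq_zero_of_right _ (neg_eq_zero.2 ?_)
    rw [← h j, e.equivFun_symm_apply v, map_sum]
    refine Finset.sum_congr rfl fun l _ => ?_
    rw [map_smul, e.equivFun_symm_apply c, map_sum, smul_eq_mul, mul_comm]
    simp only [map_smul, LinearMap.coe_sum, Finset.sum_apply, LinearMap.smul_apply, smul_eq_mul]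
  rcases this with h | h
  · exact Or.inl (e.equivFun.symm.map_eq_zero_iff.1 h)
  · obtain ⟨t, ht⟩ := Submodule.mem_span_singleton.1 h
    refine Or.inr ⟨t, e.equivFun.symm.injective ?_⟩
    rw [map_smul, ht]

end Cfsg.Agent.Sing
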